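import Cfsg.Agent.AG.D

/-! Groups with the involution fusion pattern of `A₄ₖ₊₂`: fusion in the centralizer of a special four-group. -/

set_option autoImplicit false
set_option linter.unusedSectionVars false

namespace CF.AG

open Subgroup Cfsg CF.BG CF.Sig CF.Ab2 CF.Kondo CF.Known.Pres CF.StA CF.AF Equiv Equiv.Perm Sum
open CF.GW hiding DT

local notation "Alt" => alternatingGroup

variable {ι : Type*} [Fintype ι] [DecidableEq ι] {G : Type*} [Group G] [Finite G] {i j : ι}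
  {P W : Subgroup (Perm (Om ι))} {ty : G → ℕ} {F F' : Perm (Om ι) → G} {α β ω : Perm (Om ι)}
  {a b c d d' e g u v w x y : G} {Q T U U' X : Subgroup G} {p q r : Om ι}

namespace Pat
variable (h : Pat P ty)
include h

theorem two (k : IsV ty U) (k' : IsV ty U') (p : P2 Q) (l : U ≤ Q) (l' : U' ≤ Q) :
    U' ≤ 𝐂 U ∧ ∀ d ∈ U, d ∈ U' → d ≠ 1 → U = U' := by
  obtain ⟨F, m, s⟩ := h.mo p
  obtain ⟨i, rfl⟩ := h.blk m k (l.trans s)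
  obtain ⟨j, rfl⟩ := h.blk m k' (l'.trans s)
  refine ⟨im_le fun a ha => (m.cent (h.fm.le i) (h.fm.le j ha)).2 fun b hb => V_comm hb ha, fun d h1 h2 n => ?_⟩
  obtain ⟨δ, hδ, rfl⟩ := (m.e.mem_im_iff (h.fm.le i)).1 h1
  rw [V_eq hδ ((m.e.mem_im' (h.fm.le j) (h.fm.le i hδ)).1 h2) fun e => n (e ▸ m.e.one)]

theorem tu (k : IsV ty U) (c : a ∈ 𝐂 U) (aa : a * a = 1) : ∃ u ∈ U, Dl ty U (a * u) := by
  obtain ⟨F, m, s⟩ := h.mo (two_sup k.pi aa (cent_le_norm _ c))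
  obtain ⟨i, rfl⟩ := h.blk m k (le_sup_left.trans s)
  obtain ⟨α, ha, aa', -, rfl⟩ := m.ex (s (mem_sup_right (mem_zpowers a))) aa
  have c' := (m.cent (h.fm.le i) ha).1 c
  obtain ⟨v, hv, e⟩ := split_V c'
  refine ⟨_, mem_im hv, m.e.mul ha (h.fm.le i hv) ▸ h.dl m (mul_mem ha (h.fm.le i hv)) ?_ e⟩
  rw [mmA (c' v hv).symm, aa', V_sq hv, one_mul]

theorem fixU (k : IsV ty U) (c : a ∈ 𝐂 U) (aa : a * a = 1) (hg : g ∈ 𝐂 U) (hu : u ∈ U) (e : g * a * g⁻¹ = a * u) : u = 1 := by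
  obtain ⟨v, hv, D⟩ := h.tu k c aa
  refine D.uniq (le_of_eq ?_) hu
  rw [← h.inv g (a * v), ← conj_mul, e, conj_eq_of_comm (hg v hv).symm, mul_assoc, mul_assoc, k.abel.mul_comm hu hv]

theorem exV (dd : d * d = 1) (t : ty d = 4) : ∃ U, IsV ty U ∧ d ∈ U := by
  obtain ⟨F, m⟩ := h.ex
  obtain ⟨i⟩ := h.fm.ne
  have k := h.isV m i
  obtain ⟨u, hu, n⟩ := k.ex
  obtain ⟨g, rfl⟩ := h.fus (k.sq hu) dd ((k.tp u hu n).trans t.symm)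
  exact ⟨_, h.cjV k g, conj_mem_cj.2 hu⟩

theorem cjV2 (k : IsV ty U) (k' : IsV ty U') (h1 : d ∈ U) (h2 : d ∈ U') (n : d ≠ 1) (l : U ≤ X) (l' : U' ≤ X)
    (c : X ≤ 𝐂₁ d) : ∃ c ∈ X, cj c U = U' := by
  obtain ⟨T, hT, s⟩ := exists_syl_le l' k'.pi
  obtain ⟨g, hg, s'⟩ := hT.syl_cj_le l k.pi
  exact ⟨g, hg, (h.two (h.cjV k g) k' hT.pi s' s).2 d (conj_eq_of_comm (mem_cent1.1 (c hg)) ▸ conj_mem_cj.2 h1) h2 n⟩

theorem nrm' (k : IsV ty U) (hd : d ∈ U) (n : d ≠ 1) (p : P2 T) (l : U ≤ T) (c : T ≤ 𝐂₁ d) : T ≤ 𝐍 U := fun t ht =>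
  cj_eq_self.1 ((h.two (h.cjV k t) k p (cj_le_of_mem ht l) l).2 d
    (conj_eq_of_comm (mem_cent1.1 (c ht)) ▸ conj_mem_cj.2 hd) hd n)

theorem nrm (dd : d * d = 1) (t : ty d = 4) (p : P2 Q) (l : Q ≤ 𝐂₁ d) : ∃ U, IsV ty U ∧ d ∈ U ∧ Q ≤ 𝐍 U := by
  obtain ⟨U, k, hd⟩ := h.exV dd t
  obtain ⟨T, hT, s⟩ := exists_syl_le l p
  obtain ⟨g, hg, s'⟩ := hT.syl_cj_le (k.cen hd) k.pi
  have m : d ∈ cj g U := conj_eq_of_comm (mem_cent1.1 hg) ▸ conj_mem_cj.2 hd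
  exact ⟨_, h.cjV k g, m, s.trans (h.nrm' (h.cjV k g) m (h.ne1 t) hT.pi s' hT.le)⟩

theorem sylC (m : Mo P ty F) (l : W ≤ P) (ab : Abel W) (s : Syl 2 (P ⊓ 𝐂 W) (Alt _ ⊓ 𝐂 W))
    (k : ∀ F', Mo P ty F' → im W F ≤ im P F' → ∃ σ, cj σ W ≤ P ∧ im W F = im (cj σ W) F') :
    Syl 2 (im (P ⊓ 𝐂 W) F) (𝐂 (im W F)) := by
  obtain ⟨T, hT, e⟩ := exists_syl_le (M := 𝐂 (im W F)) (im_le fun a ha => (m.cent l (l ha)).2 (ab ha))
    (m.syl.pi.le (im_mono l))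
  obtain ⟨F', m', l'⟩ := h.mo hT.pi
  obtain ⟨σ, l1, q⟩ := k F' m' (e.trans l')
  refine hT.of_card_le ((m.im_cent l).le.trans inf_le_right) (m.syl.pi.le (im_mono inf_le_left)) ?_
  rw [m.e.card_im inf_le_left]
  refine le_trans ?_ (card_cent_le s h.fm.pi h.fm.syl.le σ)
  rw [← m'.e.card_im inf_le_left, m'.im_cent l1, ← q]
  exact card_le (le_inf l' hT.le)

theorem gd (xx : x * x = 1) : ∃ F ω, Mo P ty F ∧ Gd P ω ∧ F ω = x ∧ Syl 2 (im (P ⊓ 𝐂₁ ω) F) (𝐂₁ x) := by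
  obtain ⟨F, m, l⟩ := h.mo (two_zp xx)
  obtain ⟨α, ha, aa, s, -⟩ := m.ex (l (mem_zpowers x)) xx
  obtain ⟨ω, k, s'⟩ := h.fm.gd aa (h.fm.alt ha)
  obtain ⟨g, e⟩ := h.fus (m.e.sq k.mem k.sq) xx ((m.tp _ k.mem k.sq).trans (s'.trans s))
  have m' := h.cF m g
  refine ⟨_, ω, m', k, e, ?_⟩
  have := h.sylC m' (zpowers_le.2 k.mem) (abel_zpowers ω) (by rw [cent_zpowers]; exact k.syl) fun F' m'' l => by
    rw [m'.zp k.mem] at l ⊢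
    obtain ⟨β, hb, bb, sb, e⟩ := m''.ex (l (mem_zpowers _)) (m'.e.sq k.mem k.sq)
    obtain ⟨σ, rfl⟩ := conj_of_sc k.sq bb (sb.trans (m'.tp _ k.mem k.sq)).symm
    exact ⟨σ, by rw [cj_zpowers]; exact zpowers_le.2 hb, by rw [cj_zpowers, m''.zp hb, e]⟩
  rwa [m'.zp k.mem, cent_zpowers, cent_zpowers, show StA.cF g F ω = x from e] at this

theorem gdV (m : Mo P ty F) (s : Syl 2 (P ⊓ 𝐂 (V i)) (Alt _ ⊓ 𝐂 (V i))) :
    Syl 2 (im (P ⊓ 𝐂 (V i)) F) (𝐂 (im (V i) F)) :=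
  h.sylC m (h.fm.le i) (abel_of_forall fun _ a _ b => V_comm a b) s fun F' m' l => by
    obtain ⟨j, e⟩ := h.blk m' (h.isV m i) l
    obtain ⟨σ, q⟩ := V_conj i j
    exact ⟨σ, q ▸ h.fm.le j, q ▸ e⟩

theorem cjL (k : Lm ty w d) (g : G) : Lm ty (g * w * g⁻¹) (g * d * g⁻¹) :=
  ⟨csq k.sq g, (h.inv _ _).trans k.tp, k.cen.conj g, by rw [conj_mul, h.inv, h.inv, k.sub]⟩

theorem cjL' (k : Lm ty w d) (hg : g ∈ 𝐂₁ w) : Lm ty w (g * d * g⁻¹) := by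
  have := h.cjL k g; rwa [conj_eq_of_comm (mem_cent1.1 hg)] at this

theorem lemV (ww : w * w = 1) (k : Lm ty w d) (k' : Lm ty w e) (c : Commute e d) (t : ty (e * d) = 4) :
    ∃ U, IsV ty U ∧ d ∈ U ∧ w ∈ 𝐂 U ∧ e ∈ 𝐍 U ∧ e ∉ 𝐂 U ∧ ∃ v ∈ U, v * e * v⁻¹ = e * d := by
  obtain ⟨U, s, hd, n⟩ := h.nrm k.sq k.tp (two_sup (two_zp ww) k'.sq (cent1_le_norm_zp _ (mem_cent1.2 k'.cen)))
    (sup_le (zpowers_le.2 (mem_cent1.2 k.cen.symm)) (zpowers_le.2 (mem_cent1.2 c)))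
  have nw := n (mem_sup_left (mem_zpowers w))
  have ne := n (mem_sup_right (mem_zpowers e))
  obtain ⟨v, f, rfl⟩ := s.fp' hd (h.ne1 k.tp)
  have cj : ∀ {x}, x * v * x⁻¹ = d * v → Commute x d → v * x * v⁻¹ = x * d := fun {x} q c => by
    rw [mul_inv_eq_iff_eq_mul] at q ⊢
    rw [c.eq, mul_assoc, q, ← mul_assoc, ← mul_assoc, f.l.sq, one_mul]
  have cw : w ∈ 𝐂 (V4 d v) := by
    rw [cent_V4]
    refine ⟨mem_cent1.2 k.cen.symm, (fp_act f nw (conj_eq_of_comm k.cen.symm)).elim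
      (fun q => mem_cent1.2 (mul_inv_eq_iff_eq_mul.1 q)) fun q => ?_⟩
    have := k.sub
    rw [← cj q k.cen.symm, h.inv] at this; omega
  have ce : e ∉ 𝐂 (V4 d v) := fun q => by
    by_cases m : e ∈ V4 d v
    · obtain ⟨u, hu, D⟩ := h.tu s cw ww
      have u1 : u ≠ 1 := by
        rintro rfl
        have := D.tp d hd f.l.ne_one
        rw [mul_one] at this; have := k.sub; omega
      have r : ∀ x ∈ V4 d v, Lm ty w x → u * x = 1 := fun x hx L => D.uniq (by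
        have h1 := D.tp u hu u1
        rw [mul_assoc, s.sq hu, mul_one] at h1
        rw [mul_assoc, ← mul_assoc u, s.sq hu, one_mul]; have := L.sub; omega) (mul_mem hu hx)
      have : e = d := mul_left_cancel ((r e m k').trans (r d hd k).symm)
      rw [this, k.sq] at t; exact h.ne1 t rfl
    · exact s.iso e q k'.sq k'.tp m d hd f.l.ne_one t
  refine ⟨_, s, hd, cw, ne, ce, v, right_mem_V4 _ _, cj ((fp_act f ne (conj_eq_of_comm c)).resolve_left fun q => ce ?_) c⟩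
  rw [cent_V4]; exact ⟨mem_cent1.2 c, mem_cent1.2 (mul_inv_eq_iff_eq_mul.1 q)⟩

variable (m : Mo P ty F) (k : Gd P ω)
include m k

theorem lm_dt (n : D4 p (ω p) q (ω q)) : Lm ty (F ω) (F (dt p (ω p) q (ω q))) := by
  have s := dt_Se k.sq n
  have c := Sb_comm k.sq s.1
  have := (Sb_iff k.sq).1 s.1
  exact ⟨m.e.sq (k.Se s) n.sq, (m.tp _ (k.Se s) n.sq).trans n.dT.2, (m.e.comm (k.Se s) k.mem).2 c, by
    rw [m.tpm k.mem (k.Se s) (by rw [mmA c.symm, k.sq, n.sq, one_mul]), m.tp _ k.mem k.sq, ← this, sc, sc, n.dT.2, add_comm]⟩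

theorem lm_ex (L : Lm ty (F ω) d) (l : d ∈ im P F) : ∃ p q, D4 p (ω p) q (ω q) ∧ d = F (dt p (ω p) q (ω q)) := by
  obtain ⟨δ, hδ, dd, s, rfl⟩ := m.ex l L.sq
  have c := (m.e.comm hδ k.mem).1 L.cen
  have := L.sub
  rw [m.tpm k.mem hδ (by rw [mmA c.symm, k.sq, dd, one_mul]), m.tp _ k.mem k.sq] at this
  obtain ⟨p, q, n, e⟩ := ex_of_Sb k.sq ⟨dd, s.trans L.tp⟩ ((Sb_iff k.sq).2 (by rw [s, L.tp]; omega))
  exact ⟨p, q, n, e ▸ rfl⟩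

theorem step (n : D4 p (ω p) q (ω q)) (n' : D4 p (ω p) r (ω r)) :
    ∃ c ∈ 𝐂₁ (F ω), c * F (dt p (ω p) q (ω q)) * c⁻¹ = F (dt p (ω p) r (ω r)) := by
  by_cases e : r = q ∨ r = ω q
  · refine ⟨1, one_mem _, ?_⟩
    rcases e with rfl | rfl
    · simp
    · rw [ap2 k.sq, dt, dt, swap_comm (ω q)]; simp
  push Not at e
  have n1 : D4 q (ω q) r (ω r) := .of_inv k.sq n.cd.symm n'.cd.symm e.1 e.2
  have s := k.Se (dt_Se k.sq n)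
  have s1 := k.Se (dt_Se k.sq n1)
  have q1 : F (dt p (ω p) q (ω q)) * F (dt q (ω q) r (ω r)) = F (dt p (ω p) r (ω r)) := by rw [← m.e.mul s s1, dt_mul n']
  obtain ⟨U, -, -, cw, -, -, v, hv, q⟩ := h.lemV (m.e.sq k.mem k.sq) (h.lm_dt m k n1) (h.lm_dt m k n)
    ((m.e.comm s s1).2 (Sb_abel.mul_comm (dt_Se k.sq n).1 (dt_Se k.sq n1).1)) (q1 ▸ (h.lm_dt m k n').tp)
  exact ⟨v, mem_cent1.2 (cw v hv), q.trans q1⟩

omit m k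

theorem lam (ww : w * w = 1) (L : Lm ty w d) (L' : Lm ty w d') : ∃ c ∈ 𝐂₁ w, c * d * c⁻¹ = d' := by
  obtain ⟨F, ω, m, k, rfl, s⟩ := h.gd ww
  have t : ∀ {d}, Lm ty (F ω) d → ∃ c ∈ 𝐂₁ (F ω), ∃ p q, D4 p (ω p) q (ω q) ∧ c * d * c⁻¹ = F (dt p (ω p) q (ω q)) :=
    fun L => by
      obtain ⟨c, hc, l⟩ := s.syl_cj_le (zpowers_le.2 (mem_cent1.2 L.cen)) (two_zp L.sq)
      exact ⟨c, hc, h.lm_ex m k (h.cjL' L hc) (im_mono inf_le_left (l (conj_mem_cj.2 (mem_zpowers _))))⟩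
  obtain ⟨c, hc, p, q, n, e⟩ := t L
  obtain ⟨c', hc', p', q', n', e'⟩ := t L'
  suffices r : ∃ g ∈ 𝐂₁ (F ω), g * F (dt p (ω p) q (ω q)) * g⁻¹ = F (dt p' (ω p') q' (ω q')) by
    obtain ⟨g, hg, r⟩ := r
    refine ⟨c'⁻¹ * g * c, mul_mem (mul_mem (inv_mem hc') hg) hc, ?_⟩
    rw [← e, ← e'] at r
    calc _ = c'⁻¹ * (g * (c * d * c⁻¹) * g⁻¹) * c' := by group
      _ = _ := by rw [r]; group
  by_cases o : p' = p ∨ p' = ω p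
  · have q1 : dt p' (ω p') q' (ω q') = dt p (ω p) q' (ω q') ∧ D4 p (ω p) q' (ω q') := by
      rcases o with rfl | rfl
      · exact ⟨rfl, n'⟩
      · rw [ap2 k.sq] at n' ⊢; exact ⟨by rw [dt, swap_comm], n'.fl⟩
    rw [q1.1]; exact h.step m k n q1.2
  push Not at o
  have n1 : D4 p (ω p) p' (ω p') := .of_inv k.sq n.ab.symm n'.ab.symm o.1 o.2
  obtain ⟨g, hg, r⟩ := h.step m k n n1
  obtain ⟨g', hg', r'⟩ := h.step m k n1.sw n'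
  refine ⟨g' * g, mul_mem hg' hg, ?_⟩
  rw [← r', n1.symm', ← r]; group

theorem exE (ww : w * w = 1) (L : Lm ty w d) (t : 6 ≤ ty w) : ∃ e, Lm ty w e ∧ Commute e d ∧ ty (e * d) = 4 := by
  obtain ⟨F, ω, m, k, rfl, s⟩ := h.gd ww
  rw [m.tp _ k.mem k.sq] at t
  obtain ⟨p, hp⟩ := exm (σ := ω) (by rintro rfl; rw [sc_zero.2 rfl] at t; omega)
  obtain ⟨q, n⟩ := pick2 k.sq hp (by omega)
  obtain ⟨r, n1, n2⟩ := pick3 k.sq n t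
  obtain ⟨c, hc, rfl⟩ := h.lam ww (h.lm_dt m k n2) L
  have s := k.Se (dt_Se k.sq n)
  have s1 := k.Se (dt_Se k.sq n2)
  refine ⟨_, h.cjL' (h.lm_dt m k n) hc, Commute.conj
    ((m.e.comm s s1).2 (Sb_abel.mul_comm (dt_Se k.sq n).1 (dt_Se k.sq n2).1)) c, ?_⟩
  rw [conj_mul, h.inv, ← m.e.mul s s1, dt_mul n1, (h.lm_dt m k n1).tp]

theorem lm_of (s : IsV ty U) (D : Dl ty U x) (hd : d ∈ U) (n : d ≠ 1) : Lm ty (x * d) d :=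
  ⟨s.sq hd, s.tp d hd n, Commute.mul_right (D.cen d hd) (.refl d), by rw [mul_assoc, s.sq hd, mul_one, D.tp d hd n]⟩

theorem ty_ge (xx : x * x = 1) (n : x ≠ 1) : 4 ≤ ty x := by
  obtain ⟨F, m, l⟩ := h.mo (two_zp xx)
  obtain ⟨α, ha, aa, s, -⟩ := m.ex (l (mem_zpowers x)) xx
  exact Nat.le_of_dvd (Nat.pos_of_ne_zero (mt (h.zero xx).1 n)) (s ▸ four_dvd aa (h.fm.alt ha))

/-- fusion in the centralizer of a special four-group -/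
theorem fusA (s : IsV ty U) (D : Dl ty U x) (D' : Dl ty U y) (t : ty x = ty y) : ∃ g ∈ 𝐂 U, g * x * g⁻¹ = y := by
  by_cases y1 : y = 1
  · subst y1
    exact ⟨1, one_mem _, by rw [(h.zero D.sq).1 (t.trans ((h.zero D'.sq).2 rfl))]; simp⟩
  obtain ⟨d, hd, n⟩ := s.ex
  have dd := s.sq hd
  have L := h.lm_of s D hd n
  have L' := h.lm_of s D' hd n
  have yy := mul_sq D'.sq dd (D'.cen d hd).symm
  obtain ⟨g, e⟩ := h.fus (mul_sq D.sq dd (D.cen d hd).symm) yy (by rw [D.tp d hd n, D'.tp d hd n, t])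
  obtain ⟨c, hc, e1⟩ := h.lam yy (e ▸ h.cjL L g) L'
  have e2 : c * g * d * (c * g)⁻¹ = d := cj2 rfl e1
  have e3 : c * g * x * (c * g)⁻¹ = y := mul_right_cancel (b := d) (
    calc _ = c * g * x * (c * g)⁻¹ * (c * g * d * (c * g)⁻¹) := by rw [e2]
      _ = c * (g * (x * d) * g⁻¹) * c⁻¹ := by group
      _ = _ := by rw [e, conj_eq_of_comm (mem_cent1.1 hc)])
  generalize c * g = g at e2 e3
  have lU : U ≤ 𝐂₁ y ⊓ 𝐂₁ d := le_inf (le_cent1_iff.2 D'.cen) (s.cen hd)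
  obtain ⟨c, hc, q⟩ := h.cjV2 (h.cjV s g) s (e2 ▸ conj_mem_cj.2 hd) hd n (X := 𝐂₁ y ⊓ 𝐂₁ d)
    (le_inf (le_cent1_iff.2 (e3 ▸ (h.cjD D g).cen)) (e2 ▸ (h.cjV s g).cen (conj_mem_cj.2 hd))) lU inf_le_right
  rw [cj_cj, cj_eq_self] at q
  have e4 := cj2 e2 (conj_eq_of_comm (mem_cent1.1 hc.2))
  have e5 := cj2 e3 (conj_eq_of_comm (mem_cent1.1 hc.1))
  generalize c * g = g at q e4 e5
  obtain ⟨e, L1, ce, te⟩ := h.exE yy L' (by rw [D'.tp d hd n]; have := h.ty_ge D'.sq y1; omega)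
  obtain ⟨U', s', hd', cw, ne, nc, -⟩ := h.lemV yy L' L1 ce te
  have cy : ∀ {z}, Commute z (y * d) → Commute z d → z ∈ 𝐂₁ y := fun c1 c2 => mem_cent1.2 (by
    have := c1.mul_right c2; rwa [mul_assoc, dd, mul_one] at this)
  obtain ⟨c', hc', q'⟩ := h.cjV2 s' s hd' hd n (X := 𝐂₁ y ⊓ 𝐂₁ d)
    (le_inf (fun z hz => cy (cw z hz) (mem_cent1.1 (s'.cen hd' hz))) (s'.cen hd')) lU inf_le_right
  have m1 : c' * e * c'⁻¹ ∈ 𝐂₁ y ⊓ 𝐂₁ d := mul_mem (mul_mem hc' ⟨cy L1.cen ce, mem_cent1.2 ce⟩) (inv_mem hc')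
  have m2 : c' * e * c'⁻¹ ∈ 𝐍 U := q' ▸ cj_norm c' U' ▸ conj_mem_cj.2 ne
  have m3 : c' * e * c'⁻¹ ∉ 𝐂 U := q' ▸ cj_cent c' U' ▸ mt conj_mem_cj.1 nc
  generalize c' * e * c'⁻¹ = e at m1 m2 m3
  obtain ⟨v, f, rfl⟩ := s.fp' hd n
  have z : ∀ {g}, g * d * g⁻¹ = d → g * v * g⁻¹ = v → g ∈ 𝐂 (V4 d v) := fun q1 q2 => by
    rw [cent_V4]; exact ⟨mem_cent1.2 (mul_inv_eq_iff_eq_mul.1 q1), mem_cent1.2 (mul_inv_eq_iff_eq_mul.1 q2)⟩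
  have e6 := conj_eq_of_comm (mem_cent1.1 m1.2)
  rcases fp_act f q e4 with r | r
  · exact ⟨g, z e4 r, e5⟩
  have r' := (fp_act f m2 e6).resolve_left fun r' => m3 (z e6 r')
  exact ⟨e * g, z (cj2 e4 e6) (cj2 r (by rw [← conj_mul, e6, r', ← mul_assoc, dd, one_mul])),
    cj2 e5 (conj_eq_of_comm (mem_cent1.1 m1.1))⟩

end Pat

end CF.AG
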